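import Groth.Prelude.Def_Coh
import Groth.Prelude.Def_CohB1
import Groth.Agent.QCoh.Tilde
import Groth.Agent.SiteBase.ModColim

/-!
# Modules over a quasi-coherent algebra on a scheme

Generating sections and presentations of modules over a sheaf of rings receiving the structure
sheaf, from quasi-coherence after restriction of scalars.
-/

set_option autoImplicit false
set_option linter.style.haveILetI false
set_option backward.isDefEq.respectTransparency false
set_option backward.isDefEq.respectTransparency.types false

universe u v' u'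

open CategoryTheory CategoryTheory.Limits AlgebraicGeometry TopologicalSpace Opposite

namespace Groth.Agent.QAlgMod

noncomputable section

section Site

variable {C : Type u'} [Category.{v'} C] {J : GrothendieckTopology C}
  [HasWeakSheafify J AddCommGrpCat.{u}] [J.WEqualsLocallyBijective AddCommGrpCat.{u}]
  {R S : Sheaf J RingCat.{u}} (φ : R ⟶ S)

theorem restrictScalars_faithful : (SheafOfModules.restrictScalars.{u} φ).Faithful :=
  haveI : (SheafOfModules.restrictScalars.{u} φ ⋙ SheafOfModules.toSheaf.{u} R).Faithful :=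
    inferInstanceAs (SheafOfModules.toSheaf.{u} S).Faithful
  Functor.Faithful.of_comp (SheafOfModules.restrictScalars.{u} φ) (SheafOfModules.toSheaf.{u} R)

/-- A section of a restriction of scalars, seen over the larger sheaf of rings. -/
def secUp {G : SheafOfModules.{u} S} (t : ((SheafOfModules.restrictScalars φ).obj G).sections) :
    G.sections :=
  ⟨t.val, fun f => t.property f⟩

/-- Generating sections of a restriction of scalars generate over the larger sheaf of rings. -/
def gensUp (G : SheafOfModules.{u} S)
    (σ : ((SheafOfModules.restrictScalars φ).obj G).GeneratingSections) :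
    G.GeneratingSections where
  I := σ.I
  s i := secUp φ (σ.s i)
  epi := ⟨fun {Z} h k hk => by
    have e : ∀ i, SheafOfModules.sectionsMap h (secUp φ (σ.s i)) =
        SheafOfModules.sectionsMap k (secUp φ (σ.s i)) := fun i => by
      rw [SheafOfModules.freeHomEquiv_symm_comp, SheafOfModules.freeHomEquiv_symm_comp] at hk
      exact congr_fun ((SheafOfModules.freeHomEquiv Z).symm.injective hk) i
    have e' : σ.π ≫ (SheafOfModules.restrictScalars φ).map h =
        σ.π ≫ (SheafOfModules.restrictScalars φ).map k := by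
      rw [SheafOfModules.freeHomEquiv_symm_comp, SheafOfModules.freeHomEquiv_symm_comp]
      congr 1
      funext i
      exact Subtype.ext (funext fun W => congrArg (fun z : Z.sections => z.val W) (e i))
    haveI := restrictScalars_faithful φ
    exact (SheafOfModules.restrictScalars φ).map_injective ((cancel_epi σ.π).1 e')⟩

end Site

section Affine

/-- A quasi-coherent module on an affine scheme has a presentation. -/
theorem exists_presentation {Z : Scheme.{u}} [IsAffine Z] {N : Z.Modules} (hN : Coh.IsQCoh N) :
    Nonempty N.Presentation := by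
  let N' := N.restrict Z.isoSpec.inv
  have hN' : Coh.IsQCoh N' := QCoh.isQCoh_restrict _ hN
  haveI : IsIso N'.fromTildeΓ := (isQuasicoherent_iff_isIso_fromTildeΓ N').1 hN'
  let P : N'.Presentation := SheafOfModules.Presentation.ofIsIso.{u, u, u} N'.fromTildeΓ
    (presentationTilde.{u} _ .univ (by simp) _ (Submodule.span_eq _))
  let e : N'.restrict Z.isoSpec.hom ≅ N :=
    QCoh.restrictRestrict N _ _ ≪≫
      (Scheme.Modules.restrictFunctorCongr Z.isoSpec.hom_inv_id).app N ≪≫
      Scheme.Modules.restrictFunctorId.app N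
  exact ⟨SheafOfModules.Presentation.ofIsIso.{u, u, u} e.hom
    (Scheme.Modules.presentationRestrict _ P)⟩

end Affine

variable {X : Scheme.{u}} {S : Sheaf (Opens.grothendieckTopology X) RingCat.{u}}
  (ψ : X.ringCatSheaf ⟶ S) (U : X.Opens)

/-- The structure map on an open. -/
def overψ : X.ringCatSheaf.over U ⟶ S.over U :=
  ((Opens.grothendieckTopology X).overPullback RingCat.{u} U).map ψ

/-- Restriction of scalars on an open. -/
abbrev res : SheafOfModules.{u} (S.over U) ⥤ SheafOfModules.{u} (X.ringCatSheaf.over U) :=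
  SheafOfModules.restrictScalars (overψ ψ U)

/-- From modules over the algebra on an open to modules on the open subscheme. -/
def toU : SheafOfModules.{u} (S.over U) ⥤ (U : Scheme.{u}).Modules :=
  res ψ U ⋙ (Scheme.Modules.overEquiv U).functor

/-- Compatibility of `toU` with restriction. -/
def toUIso (F : SheafOfModules.{u} S) :
    (toU ψ U).obj (F.over U) ≅
      Scheme.Modules.restrict ((SheafOfModules.restrictScalars ψ).obj F : X.Modules) U.ι :=
  (Scheme.Modules.overFunctorEquiv U).app ((SheafOfModules.restrictScalars ψ).obj F)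

instance : PreservesColimitsOfSize.{u, u} (toU ψ U) :=
  haveI := SiteBase.preservesColimitsOfSize_restrictScalars (overψ ψ U)
  comp_preservesColimits _ _

instance : PreservesLimitsOfSize.{u, u} (toU ψ U) :=
  haveI := SiteBase.preservesLimitsOfSize_restrictScalars (overψ ψ U)
  comp_preservesLimits _ _

variable {U}

theorem isQCoh_toU_unit
    (hS : Coh.IsQCoh ((SheafOfModules.restrictScalars ψ).obj (SheafOfModules.unit S) : X.Modules)) :
    Coh.IsQCoh ((toU ψ U).obj (SheafOfModules.unit (S.over U))) :=
  (QCoh.isQCoh_iff_iso (toUIso ψ U (SheafOfModules.unit S))).2 (QCoh.isQCoh_restrict _ hS)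

theorem isQCoh_toU_free
    (hS : Coh.IsQCoh ((SheafOfModules.restrictScalars ψ).obj (SheafOfModules.unit S) : X.Modules))
    (I : Type u) : Coh.IsQCoh ((toU ψ U).obj (SheafOfModules.free.{u} I)) :=
  (QCoh.isQCoh_iff_iso (preservesColimitIso (toU ψ U)
      (Discrete.functor fun _ : I => SheafOfModules.unit (S.over U)))).2
    (QCoh.isQCoh_colimit _ fun _ => isQCoh_toU_unit ψ hS)

theorem isQCoh_toU_kernel {G H : SheafOfModules.{u} (S.over U)} (f : G ⟶ H)
    (hG : Coh.IsQCoh ((toU ψ U).obj G)) (hH : Coh.IsQCoh ((toU ψ U).obj H)) :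
    Coh.IsQCoh ((toU ψ U).obj (kernel f)) :=
  haveI : PreservesLimitsOfSize.{0, 0} (toU ψ U) := preservesLimitsOfSize_shrink _
  (QCoh.isQCoh_iff_iso (PreservesKernel.iso (toU ψ U) f)).2 (QCoh.isQCoh_kernel hG hH _)

theorem isQCoh_toU_cokernel {G H : SheafOfModules.{u} (S.over U)} (f : G ⟶ H)
    (hG : Coh.IsQCoh ((toU ψ U).obj G)) (hH : Coh.IsQCoh ((toU ψ U).obj H)) :
    Coh.IsQCoh ((toU ψ U).obj (cokernel f)) :=
  haveI : PreservesColimitsOfSize.{0, 0} (toU ψ U) := preservesColimitsOfSize_shrink _
  (QCoh.isQCoh_iff_iso (PreservesCokernel.iso (toU ψ U) f)).2 (QCoh.isQCoh_cokernel hG hH _)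

/-- Over an affine open, quasi-coherence gives generating sections over the algebra. -/
theorem exists_gens (hU : IsAffineOpen U) (G : SheafOfModules.{u} (S.over U))
    (hG : Coh.IsQCoh ((toU ψ U).obj G)) : Nonempty G.GeneratingSections := by
  haveI : IsAffine (U : Scheme.{u}) := hU
  obtain ⟨P⟩ := exists_presentation hG
  let σ₀ := P.generators.map (Scheme.Modules.overEquiv U).inverse
    (TopologicalSpace.Opens.sheafOfModulesEquivOverInverseUnit U X.ringCatSheaf).symm
  exact ⟨gensUp (overψ ψ U) G
    (σ₀.ofEpi ((Scheme.Modules.overEquiv U).unitIso.app ((res ψ U).obj G)).inv)⟩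

/-- A presented module over the algebra is quasi-coherent on the open. -/
theorem isQCoh_toU_of_presentation
    (hS : Coh.IsQCoh ((SheafOfModules.restrictScalars ψ).obj (SheafOfModules.unit S) : X.Modules))
    {G : SheafOfModules.{u} (S.over U)} (P : G.Presentation) :
    Coh.IsQCoh ((toU ψ U).obj G) :=
  (QCoh.isQCoh_iff_iso ((toU ψ U).mapIso
      ((colimit.isColimit _).coconePointUniqueUpToIso P.isColimit))).1
    (isQCoh_toU_cokernel ψ _ (isQCoh_toU_free ψ hS _) (isQCoh_toU_free ψ hS _))

theorem isQCoh_of_isQuasicoherent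
    (hS : Coh.IsQCoh ((SheafOfModules.restrictScalars ψ).obj (SheafOfModules.unit S) : X.Modules))
    (F : SheafOfModules.{u} S) (hF : F.IsQuasicoherent) :
    Coh.IsQCoh ((SheafOfModules.restrictScalars ψ).obj F : X.Modules) := by
  obtain ⟨⟨q⟩⟩ := hF
  exact QCoh.isQCoh_of_isOpenCover q.X ((Opens.coversTop_iff _ _).1 q.coversTop) fun i =>
    (QCoh.isQCoh_iff_iso (toUIso ψ (q.X i) F)).1
      (isQCoh_toU_of_presentation ψ hS (q.presentation i))

theorem isQuasicoherent_of_isQCoh
    (hS : Coh.IsQCoh ((SheafOfModules.restrictScalars ψ).obj (SheafOfModules.unit S) : X.Modules))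
    (F : SheafOfModules.{u} S)
    (hF : Coh.IsQCoh ((SheafOfModules.restrictScalars ψ).obj F : X.Modules)) :
    F.IsQuasicoherent := by
  have hp : ∀ V : X.affineOpens, Nonempty (F.over V.1).Presentation := fun V => by
    have hV : Coh.IsQCoh ((toU ψ V.1).obj (F.over V.1)) :=
      (QCoh.isQCoh_iff_iso (toUIso ψ V.1 F)).2 (QCoh.isQCoh_restrict _ hF)
    obtain ⟨σ⟩ := exists_gens ψ V.2 _ hV
    obtain ⟨τ⟩ := exists_gens ψ V.2 _ (isQCoh_toU_kernel ψ σ.π (isQCoh_toU_free ψ hS _) hV)
    exact ⟨⟨σ, τ⟩⟩
  let W : X.affineOpens → Opens X := fun V => V.1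
  let q : SheafOfModules.QuasicoherentData.{u} (R := S) F :=
    { I := X.affineOpens, X := W
      coversTop := (Opens.coversTop_iff _ W).2 (iSup_affineOpens_eq_top X)
      presentation := fun V => (hp V).some }
  exact q.isQuasicoherent

end

end Groth.Agent.QAlgMod
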